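import Mathlib

/-!
Reduced quotients of `k' ⊗ A` for finite purely inseparable extensions `k'` and the perfect closure.
-/

set_option autoImplicit false

universe u v w

open TensorProduct

namespace Groth.Agent.PIGeomRedLib

/-- A reduced algebra over a perfect field is geometrically reduced. -/
theorem isGeometricallyReduced_of_isReduced (P : Type u) [Field P] [PerfectField P]
    (A : Type v) [CommRing A] [Algebra P A] [IsReduced A]
    (hfield : ∀ (K : Type v) [Field K] [Algebra P K], Algebra.IsGeometricallyReduced P K) :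
    Algebra.IsGeometricallyReduced P A := by
  classical
  refine Algebra.IsGeometricallyReduced.of_forall_fg fun B hB => ?_
  haveI : IsReduced B := isReduced_of_injective B.val Subtype.val_injective
  haveI : Algebra.FiniteType P B := (Subalgebra.fg_iff_finiteType B).1 hB
  haveI : IsNoetherianRing B := Algebra.FiniteType.isNoetherianRing P B
  haveI : Fintype (minimalPrimes B) := (minimalPrimes.finite_of_isNoetherianRing B).fintype
  haveI hp : ∀ q : minimalPrimes B, q.1.IsPrime := fun q => q.2.1.1
  let K : minimalPrimes B → Type v := fun q => FractionRing (B ⧸ q.1)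
  let f : B →ₐ[P] (∀ q, K q) := Pi.algHom _ _ fun q =>
    (IsScalarTower.toAlgHom P (B ⧸ q.1) (K q)).comp (Ideal.Quotient.mkₐ P q.1)
  have hf : Function.Injective f := by
    rw [injective_iff_map_eq_zero]
    intro b hb
    have hmem : b ∈ sInf (minimalPrimes B) := by
      rw [Submodule.mem_sInf]
      intro q hq
      have h1 := congrFun hb ⟨q, hq⟩
      exact Ideal.Quotient.eq_zero_iff_mem.1
        (IsFractionRing.injective (B ⧸ q) (FractionRing (B ⧸ q)) (h1.trans (map_zero _).symm))
    rw [show sInf (minimalPrimes B) = (⊥ : Ideal B) by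
      rw [minimalPrimes, Ideal.sInf_minimalPrimes, ← Ideal.zero_eq_bot]
      exact Ideal.radical_bot_of_isReduced.trans rfl] at hmem
    exact hmem
  rw [Algebra.isGeometricallyReduced_field_iff]
  haveI : IsReduced (AlgebraicClosure P ⊗[P] (∀ q, K q)) := by
    haveI : ∀ q, IsReduced (AlgebraicClosure P ⊗[P] K q) := fun q =>
      (Algebra.isGeometricallyReduced_field_iff P (K q)).1 (hfield (K q))
    exact isReduced_of_injective
      (Algebra.TensorProduct.piRight P P (AlgebraicClosure P) K)
      (AlgEquiv.injective _)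
  exact isReduced_of_injective (Algebra.TensorProduct.map (AlgHom.id P _) f)
    (Module.Flat.lTensor_preserves_injective_linearMap f.toLinearMap hf)

section

variable {k : Type u} [Field k] {P : Type u} [Field P] [Algebra k P]
  {k' : Type u} [Field k'] [Algebra k k'] [Algebra k' P] [IsScalarTower k k' P]
  (A : Type v) [CommRing A] [Algebra k A]

variable (k P k') in
/-- The map `k' ⊗ A → P ⊗ A`. -/
noncomputable def incl : k' ⊗[k] A →ₐ[k'] P ⊗[k] A :=
  Algebra.TensorProduct.map (Algebra.ofId k' P) (AlgHom.id k A)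

theorem incl_injective : Function.Injective (incl k P k' A) := by
  have h : Function.Injective ((IsScalarTower.toAlgHom k k' P).toLinearMap.rTensor A) :=
    Module.Flat.rTensor_preserves_injective_linearMap _ (algebraMap k' P).injective
  intro x y hxy
  apply h
  have : ∀ z, ((IsScalarTower.toAlgHom k k' P).toLinearMap.rTensor A) z = incl k P k' A z := by
    intro z
    induction z using TensorProduct.induction_on with
    | zero => simp
    | tmul a b => rfl
    | add a b ha hb => simp [ha, hb]
  rw [this, this, hxy]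

/-- The base change to `P` of the reduced quotient of `k' ⊗ A`. -/
theorem exists_equiv_quotient (J : Ideal (k' ⊗[k] A)) :
    Nonempty (((P ⊗[k] A) ⧸ J.map (incl k P k' A)) ≃+* P ⊗[k'] ((k' ⊗[k] A) ⧸ J)) := by
  let ψ : P ⊗[k] A →ₐ[P] P ⊗[k'] ((k' ⊗[k] A) ⧸ J) :=
    Algebra.TensorProduct.lift (Algebra.ofId P _)
      (((Algebra.TensorProduct.includeRight :
          ((k' ⊗[k] A) ⧸ J) →ₐ[k'] P ⊗[k'] ((k' ⊗[k] A) ⧸ J)).restrictScalars k).comp
        (((Ideal.Quotient.mkₐ k' J).restrictScalars k).comp Algebra.TensorProduct.includeRight))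
      (fun x y => @Commute.all (P ⊗[k'] ((k' ⊗[k] A) ⧸ J)) _ _ _)
  have hψ : ∀ w : k' ⊗[k] A, ψ (incl k P k' A w) = 1 ⊗ₜ Ideal.Quotient.mk J w := by
    intro w
    induction w using TensorProduct.induction_on with
    | zero => simp
    | tmul a b =>
      simp only [incl, Algebra.TensorProduct.map_tmul, AlgHom.coe_id, id_eq, ψ,
        Algebra.TensorProduct.lift_tmul, Algebra.ofId_apply, AlgHom.comp_apply,
        AlgHom.restrictScalars_apply, Algebra.TensorProduct.includeRight_apply,
        Ideal.Quotient.mkₐ_eq_mk, Algebra.TensorProduct.algebraMap_apply,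
        Algebra.TensorProduct.tmul_mul_tmul, one_mul, mul_one, Algebra.algebraMap_self, RingHom.id_apply]
      have h1 : Ideal.Quotient.mk J (a ⊗ₜ[k] b) = a • Ideal.Quotient.mk J (1 ⊗ₜ[k] b) := by
        rw [← Ideal.Quotient.mkₐ_eq_mk k', ← map_smul, TensorProduct.smul_tmul', smul_eq_mul, mul_one]
      rw [h1, ← TensorProduct.smul_tmul, Algebra.smul_def, mul_one]
    | add a b ha hb => simp [ha, hb, TensorProduct.tmul_add]
  have hle : J.map (incl k P k' A) ≤ RingHom.ker ψ := by
    rw [Ideal.map_le_iff_le_comap]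
    intro w hw
    rw [Ideal.mem_comap, RingHom.mem_ker, hψ, Ideal.Quotient.eq_zero_iff_mem.2 hw,
      TensorProduct.tmul_zero]
  let ψ' : (P ⊗[k] A) ⧸ J.map (incl k P k' A) →+* P ⊗[k'] ((k' ⊗[k] A) ⧸ J) :=
    Ideal.Quotient.lift _ ψ.toRingHom hle
  let g : (k' ⊗[k] A) ⧸ J →ₐ[k'] (P ⊗[k] A) ⧸ J.map (incl k P k' A) :=
    Ideal.Quotient.liftₐ J ((Ideal.Quotient.mkₐ k' _).comp (incl k P k' A)) (fun w hw => by
      rw [AlgHom.comp_apply, Ideal.Quotient.mkₐ_eq_mk, Ideal.Quotient.eq_zero_iff_mem]
      exact Ideal.mem_map_of_mem _ hw)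
  let χ : P ⊗[k'] ((k' ⊗[k] A) ⧸ J) →ₐ[P] (P ⊗[k] A) ⧸ J.map (incl k P k' A) :=
    Algebra.TensorProduct.lift (Algebra.ofId P _) g (fun x y => Commute.all _ _)
  refine ⟨RingEquiv.ofRingHom ψ' χ.toRingHom ?_ ?_⟩
  · ext z
    induction z using TensorProduct.induction_on with
    | zero => simp
    | tmul a w =>
      obtain ⟨w, rfl⟩ := Ideal.Quotient.mk_surjective w
      have h1 : χ (a ⊗ₜ Ideal.Quotient.mk J w) =
          Ideal.Quotient.mk _ (algebraMap P (P ⊗[k] A) a * incl k P k' A w) := by
        simp only [χ, Algebra.TensorProduct.lift_tmul, map_mul]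
        rfl
      show ψ' (χ (a ⊗ₜ Ideal.Quotient.mk J w)) = a ⊗ₜ Ideal.Quotient.mk J w
      rw [h1]
      show ψ (algebraMap P (P ⊗[k] A) a * incl k P k' A w) = _
      rw [map_mul, AlgHom.commutes, hψ, Algebra.TensorProduct.algebraMap_apply,
        Algebra.TensorProduct.tmul_mul_tmul, Algebra.algebraMap_self, RingHom.id_apply, mul_one,
        one_mul]
    | add a b ha hb => simp only [map_add, ha, hb]
  · refine Ideal.Quotient.ringHom_ext ?_
    apply RingHom.ext
    intro z
    induction z using TensorProduct.induction_on with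
    | zero => simp
    | tmul a b =>
      show χ (ψ (a ⊗ₜ[k] b)) = Ideal.Quotient.mk _ (a ⊗ₜ[k] b)
      have h2 : (a ⊗ₜ[k] b : P ⊗[k] A) =
          algebraMap P (P ⊗[k] A) a * incl k P k' A (1 ⊗ₜ b) := by
        simp [incl]
      rw [h2, map_mul, AlgHom.commutes, hψ, map_mul, AlgHom.commutes,
        Algebra.TensorProduct.lift_tmul, map_one, one_mul, map_mul]
      rfl
    | add a b ha hb => simp only [map_add, ha, hb]

theorem map_nilradical_le :
    (nilradical (k' ⊗[k] A)).map (incl k P k' A) ≤ nilradical (P ⊗[k] A) := by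
  rw [Ideal.map_le_iff_le_comap]
  intro x hx
  rw [Ideal.mem_comap, mem_nilradical]
  exact (mem_nilradical.1 hx).map _

/-- Criterion in terms of the nilradical of `P ⊗ A`. -/
theorem isGeometricallyReduced_iff [PerfectField P] [Algebra.IsAlgebraic k' P]
    (hfield : ∀ (K : Type (max u v)) [Field K] [Algebra P K], Algebra.IsGeometricallyReduced P K) :
    Algebra.IsGeometricallyReduced k' ((k' ⊗[k] A) ⧸ nilradical (k' ⊗[k] A)) ↔
      nilradical (P ⊗[k] A) = (nilradical (k' ⊗[k] A)).map (incl k P k' A) := by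
  set T := (k' ⊗[k] A) ⧸ nilradical (k' ⊗[k] A)
  obtain ⟨e⟩ := exists_equiv_quotient (P := P) A (nilradical (k' ⊗[k] A))
  constructor
  · intro h
    haveI : IsReduced (P ⊗[k'] T) := by
      haveI := h
      infer_instance
    haveI : IsReduced ((P ⊗[k] A) ⧸ (nilradical (k' ⊗[k] A)).map (incl k P k' A)) :=
      isReduced_of_injective e.toRingHom e.injective
    refine le_antisymm ?_ (map_nilradical_le A)
    intro x hx
    rw [← Ideal.Quotient.eq_zero_iff_mem]
    exact ((mem_nilradical.1 hx).map _).eq_zero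
  · intro h
    haveI : IsReduced ((P ⊗[k] A) ⧸ (nilradical (k' ⊗[k] A)).map (incl k P k' A)) := by
      rw [← h]
      exact (Ideal.isRadical_iff_quotient_reduced _).1 (Ideal.radical_isRadical _)
    haveI : IsReduced (P ⊗[k'] T) := isReduced_of_injective e.symm.toRingHom e.symm.injective
    have hP := isGeometricallyReduced_of_isReduced P (P ⊗[k'] T) hfield
    rw [Algebra.isGeometricallyReduced_field_iff] at hP ⊢
    haveI : IsReduced (AlgebraicClosure P ⊗[k'] T) :=
      isReduced_of_injective
        (Algebra.TensorProduct.cancelBaseChange k' P P (AlgebraicClosure P) T).symm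
        (AlgEquiv.injective _)
    haveI : IsAlgClosure k' (AlgebraicClosure P) :=
      ⟨inferInstance, Algebra.IsAlgebraic.trans k' P (AlgebraicClosure P)⟩
    let σ : AlgebraicClosure k' ≃ₐ[k'] AlgebraicClosure P := IsAlgClosure.equiv k' _ _
    exact isReduced_of_injective (Algebra.TensorProduct.congr σ (AlgEquiv.refl : T ≃ₐ[k'] T))
      (AlgEquiv.injective _)

end

/-- If the nilradical over the perfect field `P` is finitely generated, a finite subextension
suffices. -/
theorem exists_of_fg {k : Type u} [Field k] {P : Type u} [Field P] [Algebra k P] [PerfectField P]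
    [IsPurelyInseparable k P] (A : Type v) [CommRing A] [Algebra k A]
    (hfield : ∀ (K : Type (max u v)) [Field K] [Algebra P K], Algebra.IsGeometricallyReduced P K)
    (hfg : (nilradical (P ⊗[k] A)).FG) :
    ∃ (k' : Type u) (_ : Field k') (_ : Algebra k k'), Module.Finite k k' ∧ IsPurelyInseparable k k' ∧
      Algebra.IsGeometricallyReduced k' ((k' ⊗[k] A) ⧸ nilradical (k' ⊗[k] A)) := by
  haveI : Algebra.IsAlgebraic k P := inferInstance
  classical
  have hlift : ∀ z : P ⊗[k] A, ∃ S : Finset P, ∀ (k' : IntermediateField k P), (S : Set P) ⊆ k' →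
      z ∈ (incl k P k' A).range := by
    intro z
    induction z using TensorProduct.induction_on with
    | zero => exact ⟨∅, fun k' _ => zero_mem _⟩
    | tmul a b =>
      refine ⟨{a}, fun k' h => ⟨(⟨a, h (by simp)⟩ : k') ⊗ₜ b, ?_⟩⟩
      rfl
    | add a b ha hb =>
      obtain ⟨S, hS⟩ := ha
      obtain ⟨S', hS'⟩ := hb
      exact ⟨S ∪ S', fun k' h => add_mem (hS k' fun x hx => h (by simp [Finset.mem_coe.1 hx]))
        (hS' k' fun x hx => h (by simp [Finset.mem_coe.1 hx]))⟩
  choose S hS using hlift
  obtain ⟨G, hG⟩ := hfg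
  let k' : IntermediateField k P := IntermediateField.adjoin k (↑(G.biUnion S) : Set P)
  haveI : FiniteDimensional k k' :=
    IntermediateField.finiteDimensional_adjoin fun x _ => Algebra.IsIntegral.isIntegral x
  haveI : Algebra.IsAlgebraic k' P := Algebra.IsAlgebraic.tower_top (K := k) k'
  haveI : IsPurelyInseparable k k' := IsPurelyInseparable.tower_bot k k' P
  refine ⟨k', inferInstance, inferInstance, inferInstance, inferInstance,
    (isGeometricallyReduced_iff A hfield).2 ?_⟩
  refine le_antisymm ?_ (map_nilradical_le A)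
  conv_lhs => rw [← hG]
  rw [Ideal.span_le]
  intro z hz
  obtain ⟨w, hw⟩ := hS z k' (fun x hx => IntermediateField.subset_adjoin k _
    (Finset.mem_coe.2 (Finset.mem_biUnion.2 ⟨z, hz, hx⟩)))
  rw [SetLike.mem_coe, ← hw]
  refine Ideal.mem_map_of_mem _ ?_
  rw [mem_nilradical]
  have hzn : z ∈ nilradical (P ⊗[k] A) := hG ▸ Ideal.subset_span hz
  obtain ⟨n, hn⟩ := mem_nilradical.1 hzn
  refine ⟨n, incl_injective (P := P) A ?_⟩
  rw [map_pow, map_zero]
  exact (congrArg (· ^ n) hw).trans hn

/-- In `R ⊗ P` with `P` purely inseparable over a field `k` and `R` a field, every element outside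
the nilradical is a unit. -/
theorem isUnit_or_isNilpotent {k : Type u} [Field k] {P : Type w} [Field P] [Algebra k P]
    [IsPurelyInseparable k P] {R : Type v} [Field R] [Algebra k R] (x : P ⊗[k] R) :
    IsUnit x ∨ IsNilpotent x := by
  obtain ⟨n, hn, r, hr⟩ := IsPurelyInseparable.exists_pow_mem_range_tensorProduct
    (Algebra.TensorProduct.comm k P R x)
  by_cases h0 : r = 0
  · right
    refine ⟨n, (Algebra.TensorProduct.comm k P R).injective ?_⟩
    rw [map_pow, ← hr, h0, map_zero, map_zero]
  · left
    have : IsUnit (Algebra.TensorProduct.comm k P R x ^ n) :=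
      hr ▸ (isUnit_iff_ne_zero.2 h0).map _
    rw [isUnit_pow_iff hn.ne'] at this
    simpa using this.map (Algebra.TensorProduct.comm k P R).symm

theorem eq_nilradical_of_isPrime {k : Type u} [Field k] {P : Type w} [Field P] [Algebra k P]
    [IsPurelyInseparable k P] {R : Type v} [Field R] [Algebra k R]
    (m : Ideal (P ⊗[k] R)) [m.IsPrime] : m = nilradical (P ⊗[k] R) := by
  refine le_antisymm (fun x hx => ?_) (nilradical_le_prime m)
  rcases isUnit_or_isNilpotent x with h | h
  · exact absurd (Ideal.eq_top_of_isUnit_mem _ hx h) (Ideal.IsPrime.ne_top inferInstance)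
  · exact mem_nilradical.2 h

theorem isArtinianRing_iff_nilradical_fg {k : Type u} [Field k] {P : Type w} [Field P] [Algebra k P]
    [IsPurelyInseparable k P] {R : Type v} [Field R] [Algebra k R] :
    IsArtinianRing (P ⊗[k] R) ↔ (nilradical (P ⊗[k] R)).FG := by
  refine ⟨fun h => IsNoetherian.noetherian _, fun h => ?_⟩
  haveI : IsNoetherianRing (P ⊗[k] R) := IsNoetherianRing.of_prime fun I hI => by
    rw [eq_nilradical_of_isPrime I]; exact h
  rw [isArtinianRing_iff_krullDimLE_zero]
  refine Ring.KrullDimLE.mk₀ fun I hI => ?_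
  obtain ⟨M, hM, hIM⟩ := Ideal.exists_le_maximal I hI.ne_top
  haveI := hM.isPrime
  rwa [eq_nilradical_of_isPrime I, ← eq_nilradical_of_isPrime M]

end Groth.Agent.PIGeomRedLib
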